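import Groth.Agent.NormAmple8.Main
import Groth.Agent.SDiv28.Norm.Normal
import Mathlib

/-!
# Ampleness descends along finite surjections onto normal schemes
-/

set_option autoImplicit false
set_option backward.isDefEq.respectTransparency false
set_option backward.isDefEq.respectTransparency.types false

universe u

open CategoryTheory AlgebraicGeometry TopologicalSpace

namespace Groth.Agent.NormAmple8

theorem exists_ample_of_normal {X Y : Scheme.{u}} (π : X ⟶ Y) [IsFinite π] [Surjective π]
    [IsIntegral Y] (hY : Pi1.IsNormalScheme Y) (L : X.Modules) (hL : CohB1.IsAmple L) :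
    ∃ M : Y.Modules, CohB1.IsAmple M := by
  obtain ⟨x, hx⟩ := π.surjective (genericPoint Y)
  let I : X.IdealSheafData := Scheme.IdealSheafData.vanishingIdeal ⟨closure {x}, isClosed_closure⟩
  haveI : IrreducibleSpace I.subscheme := by
    have h : IsIrreducible (Set.range I.subschemeι) := by
      rw [Scheme.IdealSheafData.range_subschemeι, Scheme.IdealSheafData.coe_support_vanishingIdeal]
      exact isIrreducible_singleton.closure
    haveI := Subtype.irreducibleSpace h
    let e := I.subschemeι.isEmbedding.toHomeomorph
    refine (irreducibleSpace_def _).2 ?_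
    have h' := (IrreducibleSpace.isIrreducible_univ _).image e.symm e.symm.continuous.continuousOn
    rwa [Set.image_univ, Set.range_eq_univ.2 e.symm.surjective] at h'
  haveI : IsIntegral I.subscheme := isIntegral_of_irreducibleSpace_of_isReduced _
  let ρ := I.subschemeι ≫ π
  haveI : IsFinite ρ := inferInstance
  haveI : Surjective ρ := ⟨fun y => by
    have hc : IsClosed (Set.range ρ.base) := ρ.isClosedMap.isClosed_range
    have hg : genericPoint Y ∈ Set.range ρ.base := by
      have hxr : x ∈ Set.range I.subschemeι := by
        rw [Scheme.IdealSheafData.range_subschemeι, Scheme.IdealSheafData.coe_support_vanishingIdeal]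
        exact subset_closure rfl
      obtain ⟨z, hz⟩ := hxr
      exact ⟨z, by show π (I.subschemeι z) = _; rw [hz, hx]⟩
    exact hc.closure_subset_iff.2 (Set.singleton_subset_iff.2 hg) ((genericPoint_spec Y).ge trivial)⟩
  obtain ⟨d, ⟨N⟩⟩ := SDiv28.Norm.hasNorm_of_normal ρ hY
  exact exists_ample_of_normish (SDiv28.Norm.Normish.ofNorm N) _
    (AmpleLib.isAmple_pullback_of_isAffineHom I.subschemeι hL)

end Groth.Agent.NormAmple8
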