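import Groth.Agent.SDiv28.Norm.QuasiAffine
import Groth.Agent.AmpleLib.Local
import Groth.Agent.AmpleLib.Relative
import Groth.Agent.PicLib.FiniteSetTriv
import Groth.Agent.H8Coh.TransClass
import Groth.Agent.CAlgH3.QuotAmple
import Groth.Agent.Stk19b.SepQuot
import Groth.Agent.FlatMorWeight.Chevalley

/-!
# Ampleness descends along finite morphisms with a norm
-/

set_option autoImplicit false
set_option linter.style.haveILetI false
set_option backward.isDefEq.respectTransparency false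
set_option backward.isDefEq.respectTransparency.types false
set_option maxHeartbeats 1000000

universe u

open CategoryTheory CategoryTheory.Limits AlgebraicGeometry TopologicalSpace Opposite
open Groth.Agent.Coherent Groth.Agent.PicLib Groth.Agent.AmpleLib Groth.Agent.H8Coh

namespace Groth.Agent.NormAmple8

open SDiv28.Norm

variable {X Y : Scheme.{u}} {π : X ⟶ Y} (N : Normish π)

theorem norm_res' {V V' : Y.Opens} (h : V' ≤ V) (a : Γ(X, π ⁻¹ᵁ V)) :
    N.norm V' (PicLib.res (π.preimage_mono h) a) = PicLib.res h (N.norm V a) :=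
  (N.norm_res (homOfLE h) a).symm

/-- The norm is invertible exactly over the points all of whose preimages see an invertible function. -/
theorem mem_basicOpen_norm [IsFinite π] (V : Y.Opens) (a : Γ(X, π ⁻¹ᵁ V)) (y : Y) (hy : y ∈ V) :
    y ∈ Y.basicOpen (N.norm V a) ↔ ∀ x, π x = y → x ∈ X.basicOpen a := by
  constructor
  · rintro h x rfl
    by_contra hx
    have hnu : ¬ IsUnit (X.presheaf.germ (π ⁻¹ᵁ V) x hy a) := fun h' => hx ((X.mem_basicOpen a x hy).mpr h')
    exact (IsLocalRing.mem_maximalIdeal _).mp (N.norm_mem V a x hy ((IsLocalRing.mem_maximalIdeal _).mpr hnu))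
      ((Y.mem_basicOpen _ _ hy).mp h)
  · intro hall
    let W : Y.Opens := V ⊓ ⟨(π '' (X.basicOpen a : Set X)ᶜ)ᶜ,
      (π.isClosedMap _ (X.basicOpen a).isOpen.isClosed_compl).isOpen_compl⟩
    have hyW : y ∈ W := ⟨hy, by rintro ⟨x, hx, hxy⟩; exact hx (hall x hxy)⟩
    have hle : π ⁻¹ᵁ W ≤ X.basicOpen a := fun x hx => by_contra fun h => hx.2 ⟨x, h, rfl⟩
    have hu : IsUnit (X.presheaf.map ((Opens.map π.base).map (homOfLE (inf_le_left : W ≤ V))).op a) :=
      RingedSpace.isUnit_of_isUnit_germ X.toRingedSpace _ _ fun x hx => by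
        rw [TopCat.Presheaf.germ_res_apply]
        exact (X.mem_basicOpen a x hx.1).mp (hle hx)
    have hu' := hu.map (N.norm W)
    rw [← N.norm_res] at hu'
    refine (Y.mem_basicOpen _ y hy).mpr ?_
    rw [← TopCat.Presheaf.germ_res_apply Y.presheaf (homOfLE (inf_le_left : W ≤ V)) y hyW (N.norm V a)]
    exact hu'.map _

variable {L : X.Modules}

/-- An invertible module on the base with generators whose transitions are norms. -/
theorem exists_norm_module {ι : Type u} (V : ι → Y.Opens) (hV : iSup V = ⊤) (t : ∀ i, Γ(L, π ⁻¹ᵁ V i))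
    (ht : ∀ i, IsGen L (π ⁻¹ᵁ V i) (t i)) :
    ∃ (M : Y.Modules) (_ : PicF.IsInvertible M) (m : ∀ i, Γ(M, V i)), (∀ i, IsGen M (V i) (m i)) ∧
      ∀ i j (O : Y.Opens) (hi : O ≤ V i) (hj : O ≤ V j), resM M hi (m i) =
        N.norm O ((ht j).coef (π.preimage_mono hj) (resM L (π.preimage_mono hi) (t i))) • resM M hj (m j) := by
  let η : ∀ i j, Γ(Y, V i ⊓ V j) := fun i j =>
    N.norm _ ((ht j).coef (π.preimage_mono inf_le_right) (resM L (π.preimage_mono inf_le_left) (t i)))
  have hη : ∀ i j (O : Y.Opens) (hi : O ≤ V i) (hj : O ≤ V j), PicLib.res (le_inf hi hj) (η i j) =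
      N.norm O ((ht j).coef (π.preimage_mono hj) (resM L (π.preimage_mono hi) (t i))) := by
    intro i j O hi hj
    rw [← norm_res' N, ← IsGen.coef_res, resM_resM]
  have hcc : ∀ i j k (O : Y.Opens) (hi : O ≤ V i) (hj : O ≤ V j) (hk : O ≤ V k),
      PicLib.res (le_inf hi hk) (η i k) = PicLib.res (le_inf hi hj) (η i j) * PicLib.res (le_inf hj hk) (η j k) := by
    intro i j k O hi hj hk
    rw [hη i k O hi hk, hη i j O hi hj, hη j k O hj hk, ← map_mul]
    refine congrArg _ ((ht k).coef_eq _ ?_)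
    rw [mul_smul, (ht k).coef_spec, (ht j).coef_spec]
  have hu : ∀ i j, IsUnit (η i j) := by
    intro i j
    refine IsUnit.map _ (IsUnit.of_mul_eq_one
      ((ht i).coef (π.preimage_mono inf_le_left) (resM L (π.preimage_mono inf_le_right) (t j))) ?_)
    refine ((ht j).restrict (π.preimage_mono (inf_le_right : V i ⊓ V j ≤ V j)) _ le_rfl).1 ?_
    show _ • resM L le_rfl _ = (1 : Γ(X, _)) • resM L le_rfl _
    rw [resM_self, one_smul, mul_comm, mul_smul, (ht j).coef_spec, (ht i).coef_spec]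
  obtain ⟨a, M, hM, m, -, hm, hmη⟩ := TransClass.exists_trans hV η hu hcc
  exact ⟨M, hM, m, hm, fun i j O hi hj => by rw [TransClass.trans_res hmη i j hi hj, hη i j O hi hj]⟩

/-- The norm of a section of a power. -/
theorem exists_norm_section {ι : Type u} (V : ι → Y.Opens) (hV : iSup V = ⊤) (t : ∀ i, Γ(L, π ⁻¹ᵁ V i))
    (ht : ∀ i, IsGen L (π ⁻¹ᵁ V i) (t i)) {M : Y.Modules} (m : ∀ i, Γ(M, V i)) (hm : ∀ i, IsGen M (V i) (m i))
    (hmη : ∀ i j (O : Y.Opens) (hi : O ≤ V i) (hj : O ≤ V j), resM M hi (m i) =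
        N.norm O ((ht j).coef (π.preimage_mono hj) (resM L (π.preimage_mono hi) (t i))) • resM M hj (m j))
    (n : ℕ) (c : Γ(CohB1.tensorPow L n, π ⁻¹ᵁ ⊤)) :
    ∃ σ : Γ(CohB1.tensorPow M n, ⊤), ∀ i,
      resM _ (le_top : V i ≤ ⊤) σ =
        N.norm (V i) ((isGen_powSec (ht i) n).coef le_rfl (resM _ (π.preimage_mono le_top) c)) •
          resM _ le_rfl (powSec (m i) n) := by
  let d : ∀ i, Γ(CohB1.tensorPow M n, V i) := fun i =>
    N.norm (V i) ((isGen_powSec (ht i) n).coef le_rfl (resM _ (π.preimage_mono le_top) c)) •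
      resM _ le_rfl (powSec (m i) n)
  obtain ⟨σ, hσ, -⟩ := TopCat.Sheaf.existsUnique_gluing'
    (⟨(CohB1.tensorPow M n).presheaf, (CohB1.tensorPow M n).isSheaf⟩ : TopCat.Sheaf Ab Y)
    V ⊤ (fun i => homOfLE le_top) (hV.ge) d (fun i j => by
      show resM _ inf_le_left (d i) = resM _ inf_le_right (d j)
      let T : Y.Opens := V i ⊓ V j
      have hi : T ≤ V i := inf_le_left
      have hj : T ≤ V j := inf_le_right
      simp only [d]
      rw [resM_smul, resM_smul, resM_resM, resM_resM, ← norm_res' N, ← norm_res' N, ← IsGen.coef_res, ← IsGen.coef_res,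
        resM_resM, resM_resM, resM_powSec, resM_powSec, hmη i j T hi hj, powSec_smul, smul_smul]
      refine congrArg (· • _) ?_
      rw [← map_pow, ← map_mul]
      refine congrArg _ ((isGen_powSec (ht j) n).coef_eq _ ?_).symm
      rw [mul_smul, resM_powSec, ← powSec_smul, (ht j).coef_spec, ← resM_powSec]
      exact (isGen_powSec (ht i) n).coef_spec _ _)
  exact ⟨σ, hσ⟩

/-- An ample module descends along a finite surjective morphism with norm-like data. -/
theorem exists_ample_of_normish [IsFinite π] [Surjective π] (N : Normish π) (L : X.Modules)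
    (hL : CohB1.IsAmple L) : ∃ M : Y.Modules, CohB1.IsAmple M := by
  classical
  obtain ⟨hLi, hXc, -⟩ := isAmple_iff_affGlocus.1 hL
  haveI : CompactSpace Y := π.surjective.compactSpace π.continuous
  have hsec : ∀ y : Y, ∃ n, 0 < n ∧ ∃ b : Γ(CohB1.tensorPow L n, ⊤),
      IsAffineOpen (glocus _ b) ∧ π ⁻¹' {y} ⊆ glocus _ b := fun y => by
    obtain ⟨n, hn, b, hb, -, hba⟩ := exists_affine_glocus_finite (U := ⊤) hL (π ⁻¹' {y})
      (π.finite_preimage_singleton y) fun _ _ => trivial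
    exact ⟨n, hn, b, hba, hb⟩
  have hchart : ∀ y : Y, ∃ (V : Y.Opens) (t : Γ(L, π ⁻¹ᵁ V)), y ∈ V ∧ IsGen L (π ⁻¹ᵁ V) t := by
    intro y
    obtain ⟨n, -, b, hba, hb⟩ := hsec y
    obtain ⟨U, hU, -, -, ⟨e⟩⟩ := exists_triv_of_finite hLi hba _ (π.finite_preimage_singleton y) hb
    obtain ⟨s, hs⟩ := exists_isGen_of_iso e
    let V : Y.Opens := ⟨(π '' (U : Set X)ᶜ)ᶜ, (π.isClosedMap _ U.isOpen.isClosed_compl).isOpen_compl⟩
    have hVU : π ⁻¹ᵁ V ≤ U := fun z hz => by_contra fun h' => hz ⟨z, h', rfl⟩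
    exact ⟨V, resM L hVU s, by rintro ⟨z, hz, hzy⟩; exact hz (hU hzy), hs.restrict _⟩
  choose V t hyV ht using hchart
  have hV : iSup V = ⊤ := top_le_iff.1 fun y _ => Opens.mem_iSup.2 ⟨y, hyV y⟩
  obtain ⟨M, hM, m, hm, hmη⟩ := exists_norm_module N V hV t ht
  refine ⟨M, isAmple_iff_affGlocus.2 ⟨hM, inferInstance, fun y => ?_⟩⟩
  obtain ⟨n, hn, b, hba, hb⟩ := hsec y
  obtain ⟨σ, hσ⟩ := exists_norm_section N V hV t ht m hm hmη n (resM _ le_top b)
  -- the locus of the norm
  have key : ∀ w : Y, w ∈ glocus _ σ ↔ ∀ z, π z = w → z ∈ glocus _ b := by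
    intro w
    have hg := isGen_powSec (hm w) n
    have hg' := isGen_powSec (ht w) n
    have h1 := glocus_inf σ hg
    have h2 := glocus_inf b hg'
    have hd : hg.coef le_rfl (resM _ le_top σ) =
        N.norm (V w) (hg'.coef le_rfl (resM _ (π.preimage_mono le_top) (resM _ le_top b))) :=
      IsGen.coef_eq _ _ (hσ w).symm
    rw [hd, resM_resM] at h1
    have hw : w ∈ glocus _ σ ↔ w ∈ Y.basicOpen (N.norm (V w) (hg'.coef le_rfl (resM _ le_top b))) :=
      ⟨fun h => h1.le ⟨h, hyV w⟩, fun h => (h1.ge h).1⟩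
    rw [hw, mem_basicOpen_norm N _ _ w (hyV w)]
    refine forall_congr' fun z => imp_congr_right fun hz => ?_
    have hzV : z ∈ π ⁻¹ᵁ V w := by show π z ∈ V w; rw [hz]; exact hyV w
    exact ⟨fun h => (h2.ge h).1, fun h => h2.le ⟨h, hzV⟩⟩
  refine ⟨n, hn, σ, (key y).2 fun z hz => hb hz, le_top, ?_⟩
  -- affineness through the preimage
  let B := glocus _ σ
  have hsub : π ⁻¹ᵁ B ≤ glocus _ b := fun z hz => (key (π z)).1 hz z rfl
  have hAff : IsAffineOpen (π ⁻¹ᵁ B) := by
    have hMn := isInvertible_tensorPow hM n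
    have h := isAffineOpen_glocus_inf (PicLoc.isInvertible_pullback π hMn)
      (resM _ (fun _ _ => trivial : (⊤ : X.Opens) ≤ π ⁻¹ᵁ ⊤) (pullSec π σ)) hba
    have e : glocus ((Scheme.Modules.pullback π).obj (CohB1.tensorPow M n))
        (resM _ (fun _ _ => trivial : (⊤ : X.Opens) ≤ π ⁻¹ᵁ ⊤) (pullSec π σ)) = π ⁻¹ᵁ B :=
      (congrArg _ (resM_self _ le_rfl (pullSec π σ))).trans (glocus_pullSec π hMn σ)
    rwa [e, inf_eq_left.2 hsub] at h
  haveI : IsAffine (π ⁻¹ᵁ B).toScheme := hAff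
  haveI : IsFinite (π ∣_ B) := IsZariskiLocalAtTarget.restrict (P := @IsFinite) ‹IsFinite π› B
  haveI : Surjective (π ∣_ B) := IsZariskiLocalAtTarget.restrict (P := @Surjective) ‹Surjective π› B
  haveI : CompactSpace B.toScheme := (π ∣_ B).surjective.compactSpace (π ∣_ B).continuous
  haveI : QuasiSeparatedSpace B.toScheme := by
    haveI : QuasiSeparated ((π ∣_ B) ≫ terminal.from B.toScheme) := by rw [terminal.comp_from]; infer_instance
    haveI := Stk19b.SepQuot.quasiSeparated_of_comp (m := π ∣_ B) (h := terminal.from B.toScheme)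
    exact quasiSeparatedSpace_of_quasiSeparated (terminal.from B.toScheme)
  exact FlatMorWeight.isAffine_of_finite_surjective (π ∣_ B)

end Groth.Agent.NormAmple8
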